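import Groth.Agent.GLDescent.Special
import Groth.Agent.GLDescent.Extension
import Groth.Agent.GITLib.PushforwardGen
import Groth.Agent.GITLib.TorsorSchMore

/-!
# Equivariant retractions from sections of pushed forward torsors

* `exists_action_over_formula` : a cartesian quotient square gives a pseudo-torsor over the quotient, with the
  formula for the action
* `exists_retraction` : if every torsor under `G` over the quotient `Y` of an `H`-torsor `X → Y` has a section,
  then there is a `π`-equivariant map `X → G`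
-/

set_option autoImplicit false
set_option linter.style.haveILetI false
set_option backward.isDefEq.respectTransparency false

universe u

open CategoryTheory CategoryTheory.Limits MonoidalCategory CartesianMonoidalCategory MonObj AlgebraicGeometry

namespace Groth.Agent.GITLib.NontrivTorsor

open Groth.Agent.GLDescent

noncomputable section

variable {S₀ : Scheme.{u}} {G X Y : Over S₀} [GrpObj G]

/-- A point of the fibre as a point over the ground base. -/
abbrev down (φ : X ⟶ Y) {T : Over Y.left} (x : T ⟶ Over.mk φ.left) : (Over.map Y.hom).obj T ⟶ X :=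
  Over.homMk x.left (by
    show x.left ≫ X.hom = T.hom ≫ Y.hom
    rw [← Over.w φ, ← Category.assoc]
    exact congrArg (· ≫ Y.hom) (Over.w x))

/-- A cartesian quotient square gives a pseudo-torsor over the quotient. -/
theorem exists_action_over_formula (a : AlgGrp.Action G X) (φ : X ⟶ Y)
    (hcart : IsPullback a.act (snd G X) φ φ) :
    ∃ b : AlgGrp.Action (Red.bc Y.hom G) (Over.mk φ.left : Over Y.left), NonAbH1.IsPseudoTorsorSch b ∧
      ∀ {T : Over Y.left} (g : (Over.map Y.hom).obj T ⟶ G) (x : T ⟶ Over.mk φ.left),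
        down φ (lift ((Over.mapPullbackAdj Y.hom).homEquiv T G g) x ≫ b.act) = lift g (down φ x) ≫ a.act := by
  let P : Over Y.left := Over.mk φ.left
  let H := Red.bc Y.hom G
  let adj := Over.mapPullbackAdj Y.hom
  let gk : ∀ {T : Over Y.left} (_ : T ⟶ H), (Over.map Y.hom).obj T ⟶ G := fun {T} g => (adj.homEquiv T G).symm g
  let xk : ∀ {T : Over Y.left} (_ : T ⟶ P), (Over.map Y.hom).obj T ⟶ X := fun {T} x => down φ x
  have hgn : ∀ {T T' : Over Y.left} (k : T' ⟶ T) (g : T ⟶ H), gk (k ≫ g) = (Over.map Y.hom).map k ≫ gk g :=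
    fun k g => Adjunction.homEquiv_naturality_left_symm adj k g
  have hgm : ∀ {T : Over Y.left} (g g' : T ⟶ H), gk (g * g') = gk g * gk g' := fun {T} g g' => by
    apply (adj.homEquiv T G).injective
    rw [Equiv.apply_symm_apply, GLDescent.homEquiv_mul, Equiv.apply_symm_apply, Equiv.apply_symm_apply]
  have hg1 : ∀ T : Over Y.left, gk (1 : T ⟶ H) = 1 := fun T => by
    have h := hgm (1 : T ⟶ H) 1
    rw [_root_.mul_one] at h
    exact mul_eq_left.1 h.symm
  let smul : ∀ {T : Over Y.left} (_ : T ⟶ H) (_ : T ⟶ P), T ⟶ P := fun {T} g x =>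
    Over.homMk (lift (gk g) (xk x) ≫ a.act).left (by
      show (lift (gk g) (xk x) ≫ a.act).left ≫ φ.left = T.hom
      rw [← Over.comp_left, Category.assoc, hcart.w, lift_snd_assoc]
      exact Over.w x)
  have hk : ∀ {T : Over Y.left} (g : T ⟶ H) (x : T ⟶ P), xk (smul g x) = lift (gk g) (xk x) ≫ a.act :=
    fun g x => Over.OverMorphism.ext rfl
  have hxi : ∀ {T : Over Y.left} (x y : T ⟶ P), xk x = xk y → x = y := fun x y e =>
    Over.OverMorphism.ext (congrArg (fun m => m.left) e)
  let act : H ⊗ P ⟶ P := smul (fst H P) (snd H P)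
  have hact : ∀ {T : Over Y.left} (g : T ⟶ H) (x : T ⟶ P), xk (lift g x ≫ act) = lift (gk g) (xk x) ≫ a.act := by
    intro T g x
    have e : xk (lift g x ≫ act) = (Over.map Y.hom).map (lift g x) ≫ xk act := Over.OverMorphism.ext rfl
    rw [e, hk, comp_lift_assoc, ← hgn, lift_fst]
    refine congrArg (fun m => lift (gk g) m ≫ a.act) (Over.OverMorphism.ext ?_)
    exact (congrArg (fun m => CommaMorphism.left m) (lift_snd g x) :)
  let b : AlgGrp.Action H P :=
    { act := act
      one_act := by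
        have : lift (1 : 𝟙_ (Over Y.left) ⊗ P ⟶ H) (snd _ P) ≫ act = snd _ P :=
          hxi _ _ (by rw [hact, hg1, a.lift_one_act])
        rw [leftUnitor_hom, ← this]
        refine congrArg (fun w => w ≫ act) (CartesianMonoidalCategory.hom_ext _ _ ?_ ?_)
        · rw [whiskerRight_fst, lift_fst, Hom.one_def, toUnit_unique (toUnit _) (fst (𝟙_ (Over Y.left)) P)]
        · simp
      mul_act := by
        apply AlgGrp.Action.hom_ext_lift₃
        intro T g g' x
        apply hxi
        rw [lift_whiskerRight_assoc, ← Hom.mul_def, hact, hgm, a.lift_mul_act, lift_lift_associator_hom_assoc,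
          lift_whiskerLeft_assoc, hact, hact] }
  refine ⟨b, ?_, fun {T} g x => ?_⟩
  · have hd : ∀ {T : Over Y.left} (x y : T ⟶ P), ∃! g : T ⟶ H, lift g x ≫ act = y := fun {T} x y => by
      have e : xk y ≫ φ = xk x ≫ φ := Over.OverMorphism.ext ((Over.w y).trans (Over.w x).symm)
      let m := hcart.lift (xk y) (xk x) e
      have hm : lift (m ≫ fst G X) (xk x) = m := by
        conv_rhs => rw [← lift_comp_fst_snd m]
        rw [hcart.lift_snd]
      refine ⟨adj.homEquiv T G (m ≫ fst G X), hxi _ _ ?_, fun g hg => ?_⟩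
      · rw [hact]
        show lift ((adj.homEquiv T G).symm _) _ ≫ _ = _
        rw [Equiv.symm_apply_apply, hm, hcart.lift_fst]
      · rw [← Equiv.symm_apply_eq]
        have : lift (gk g) (xk x) = m := hcart.hom_ext (by rw [← hact, hg, hcart.lift_fst])
          (by rw [lift_snd, hcart.lift_snd])
        rw [← this, lift_fst]
    let dg := (hd (snd P P) (fst P P)).choose
    have hdg : lift dg (snd P P) ≫ act = fst P P := (hd (snd P P) (fst P P)).choose_spec.1
    refine ⟨lift dg (snd P P), ?_, ?_⟩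
    · show lift act (snd H P) ≫ lift dg (snd P P) = 𝟙 _
      rw [comp_lift, lift_snd, ← lift_fst_snd]
      refine congrArg (fun g => lift g (snd H P)) ?_
      refine (hd (snd H P) act).unique ?_ (by rw [lift_fst_snd, Category.id_comp])
      have := congrArg (lift act (snd H P) ≫ ·) hdg
      simp only [comp_lift_assoc, lift_snd, lift_fst] at this
      exact this
    · show lift dg (snd P P) ≫ lift act (snd H P) = 𝟙 _
      rw [comp_lift, hdg, lift_snd, lift_fst_snd]
  · show xk (lift (adj.homEquiv T G g) x ≫ act) = _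
    rw [hact]
    show lift ((adj.homEquiv T G).symm _) _ ≫ _ = _
    rw [Equiv.symm_apply_apply]

variable {H : Over S₀} [GrpObj H]

/-- Sections of pushed forward torsors give equivariant retractions. -/
theorem exists_retraction [IsAffineHom G.hom] (π : H ⟶ G) [IsMonHom π] (a : AlgGrp.Action H X) (φ : X ⟶ Y)
    (hcart : IsPullback a.act (snd H X) φ φ)
    [Flat φ.left] [Surjective φ.left] [LocallyOfFinitePresentation φ.left]
    (hall : ∀ P : NonAbH1.TorsorSch (Red.bc Y.hom G) Scheme.fppfPrecoverage,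
      NonAbH1.HasSectionOver P.X (𝟙 Y.left)) :
    ∃ r : X ⟶ G, ∀ {W : Over S₀} (h : W ⟶ H) (x : W ⟶ X),
      (lift h x ≫ a.act) ≫ r = (h ≫ π) * (x ≫ r) := by
  obtain ⟨b, hb, hbf⟩ := exists_action_over_formula a φ hcart
  have hbl : NonAbH1.IsLocallyTrivialFor Scheme.fppfPrecoverage (Over.mk φ.left : Over Y.left) :=
    ⟨Presieve.singleton φ.left, φ.left.singleton_mem_fppfPrecoverage,
      by rintro S' f ⟨⟩; exact ⟨𝟙 _, Category.id_comp _⟩⟩
  haveI : IsAffineHom (Red.bc Y.hom G).hom := MorphismProperty.pullback_snd (P := @IsAffineHom) G.hom Y.hom ‹_›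
  let u := (Over.pullback Y.hom).map π
  obtain ⟨P', f, hf⟩ := exists_pushforward_affine (J' := Red.bc Y.hom G) u
    (isTorsorFor_mono Scheme.fppfPrecoverage_le_fpqcPrecoverage (⟨hb, hbl⟩ :
      NonAbH1.IsTorsorFor Scheme.fppfPrecoverage b))
  obtain ⟨s, hs⟩ := hall ⟨P'.X, P'.act, P'.isTorsor.1, Presieve.singleton φ.left,
    φ.left.singleton_mem_fppfPrecoverage, by rintro S' g ⟨⟩; exact ⟨f.left, Over.w f⟩⟩
  let E : Over Y.left := Over.mk φ.left
  let adj := Over.mapPullbackAdj Y.hom
  let cst : ∀ T : Over Y.left, T ⟶ P'.X := fun T => Over.homMk (T.hom ≫ s) (by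
    rw [Category.assoc, hs, Category.comp_id])
  have hcst : ∀ {T T' : Over Y.left} (k : T' ⟶ T), k ≫ cst T = cst T' := fun {T T'} k =>
    Over.OverMorphism.ext (by
      show k.left ≫ T.hom ≫ s = T'.hom ≫ s
      rw [← Category.assoc, Over.w])
  obtain ⟨d, hd, -⟩ := existsUnique_diff P'.isTorsor.1 (cst E) f
  let e₀ : X ⟶ (Over.map Y.hom).obj E := Over.homMk (𝟙 X.left) (by
    show 𝟙 X.left ≫ φ.left ≫ Y.hom = X.hom
    rw [Category.id_comp, Over.w])
  refine ⟨e₀ ≫ (adj.homEquiv E G).symm d, fun {W} h x => ?_⟩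
  let y := lift h x ≫ a.act
  let T₁ : Over Y.left := Over.mk (x ≫ φ).left
  let e₁ : (Over.map Y.hom).obj T₁ ⟶ W := Over.homMk (𝟙 W.left) (by
    show 𝟙 W.left ≫ W.hom = (x ≫ φ).left ≫ Y.hom
    rw [Category.id_comp, Over.w])
  let x₁ : T₁ ⟶ E := Over.homMk x.left rfl
  have hy : y.left ≫ φ.left = (x ≫ φ).left := by
    have : y ≫ φ = x ≫ φ := by
      show (lift h x ≫ a.act) ≫ φ = _
      rw [Category.assoc, hcart.w, lift_snd_assoc]
    exact (congrArg (fun m => CommaMorphism.left m) this :)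
  let y₁ : T₁ ⟶ E := Over.homMk y.left hy
  let h₁ : T₁ ⟶ Red.bc Y.hom H := adj.homEquiv T₁ H (e₁ ≫ h)
  have hy₁ : lift h₁ x₁ ≫ b.act = y₁ := by
    have h2 := hbf (e₁ ≫ h) x₁
    have h3 : down φ x₁ = e₁ ≫ x := Over.OverMorphism.ext (Category.id_comp _).symm
    rw [h3, ← comp_lift, Category.assoc] at h2
    refine Over.OverMorphism.ext ?_
    refine ((congrArg (fun m => CommaMorphism.left m) h2) :).trans ?_
    exact Category.id_comp _
  obtain ⟨g₀, -, hu⟩ := existsUnique_diff P'.isTorsor.1 (cst T₁) (y₁ ≫ f)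
  have h4 : y₁ ≫ d = (h₁ ≫ u) * (x₁ ≫ d) := by
    refine (hu (y₁ ≫ d) ?_).trans (hu _ ?_).symm
    · show lift (y₁ ≫ d) (cst T₁) ≫ P'.act.act = _
      rw [← hcst y₁, ← comp_lift, Category.assoc, hd]
    · show lift ((h₁ ≫ u) * (x₁ ≫ d)) (cst T₁) ≫ P'.act.act = _
      rw [P'.act.lift_mul_act, ← hcst x₁, ← comp_lift_assoc, hd, ← hy₁, Category.assoc, hf, comp_lift_assoc,
        lift_fst_assoc, lift_snd_assoc]
  have h5 := congrArg (adj.homEquiv T₁ G).symm h4
  have hm : ∀ (p q : T₁ ⟶ Red.bc Y.hom G),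
      (adj.homEquiv T₁ G).symm (p * q) = (adj.homEquiv T₁ G).symm p * (adj.homEquiv T₁ G).symm q := fun p q => by
    apply (adj.homEquiv T₁ G).injective
    rw [Equiv.apply_symm_apply, GLDescent.homEquiv_mul, Equiv.apply_symm_apply, Equiv.apply_symm_apply]
  have hu₁ : (adj.homEquiv T₁ G).symm (h₁ ≫ u) = (e₁ ≫ h) ≫ π := by
    rw [Equiv.symm_apply_eq]
    exact (adj.homEquiv_naturality_right (e₁ ≫ h) π).symm
  rw [hm, hu₁] at h5
  erw [Adjunction.homEquiv_naturality_left_symm, Adjunction.homEquiv_naturality_left_symm] at h5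
  have hmy : (Over.map Y.hom).map y₁ = e₁ ≫ y ≫ e₀ := Over.OverMorphism.ext (by
    show y.left = 𝟙 W.left ≫ y.left ≫ 𝟙 X.left
    rw [Category.id_comp, Category.comp_id])
  have hmx : (Over.map Y.hom).map x₁ = e₁ ≫ x ≫ e₀ := Over.OverMorphism.ext (by
    show x.left = 𝟙 W.left ≫ x.left ≫ 𝟙 X.left
    rw [Category.id_comp, Category.comp_id])
  rw [hmy, hmx] at h5
  simp only [Category.assoc, ← MonObj.comp_mul] at h5
  have he₁ : ∀ (p q : W ⟶ G), e₁ ≫ p = e₁ ≫ q → p = q := fun p q e => Over.OverMorphism.ext (by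
    have h6 := congrArg (fun m => CommaMorphism.left m) e
    exact (Category.id_comp _).symm.trans (h6.trans (Category.id_comp _)))
  exact he₁ _ _ h5

end

end Groth.Agent.GITLib.NontrivTorsor
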