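import Groth.Agent.GITLib.NontrivTorsor.Pts
import Groth.Agent.GITLib.NontrivTorsor.Retract
import Groth.Agent.GrpdLib.OrbitQuot

/-!
# The subgroup of `GL_{n+n}` over a linear group, and the absence of equivariant retractions

* `exists_subgroup` : the subgroup of `GL_{n+n}` of block upper triangular matrices with first block in `G`
* `eq_one_of_retraction` : a retraction `GL_{n+n} → G` equivariant for that subgroup forces `G` to be trivial
-/

set_option autoImplicit false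
set_option linter.style.haveILetI false
set_option backward.isDefEq.respectTransparency false
set_option synthInstance.maxHeartbeats 400000

universe u

open CategoryTheory MonoidalCategory CartesianMonoidalCategory MonObj GrpObj AlgebraicGeometry Limits
open Groth.Agent.SekLib Groth.Agent.GrpScheme

noncomputable section

namespace Groth.Agent.GITLib.NontrivTorsor

variable {k : Type u} [Field k]

attribute [local instance] secAlgebra

variable {n : ℕ} {G : Over (Spec (CommRingCat.of k))} [GrpObj G] (ι' : G ⟶ GL' k n) [IsMonHom ι']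

theorem gmat_map_mul {T : Over (Spec (CommRingCat.of k))} (g h : T ⟶ G) :
    gmat ((g * h) ≫ ι') = gmat (g ≫ ι') * gmat (h ≫ ι') := by
  rw [MonObj.mul_comp, gmat, gmat, gmat, (DiagRep.glPts k n).mat_mul]

theorem gmat_map_one (T : Over (Spec (CommRingCat.of k))) : gmat ((1 : T ⟶ G) ≫ ι') = 1 := by
  rw [MonObj.one_comp, gmat, DiagRep.MatPts.mat_one]

set_option maxHeartbeats 800000 in
/-- The group of block upper triangular matrices whose first block lies in `G`. -/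
theorem exists_subgroup [IsClosedImmersion ι'.left] :
    ∃ (H : Over (Spec (CommRingCat.of k))) (_ : GrpObj H) (i : H ⟶ GL' k (n + n)) (π : H ⟶ G),
      IsMonHom i ∧ IsMonHom π ∧ IsClosedImmersion i.left ∧
      ∀ {T : Over (Spec (CommRingCat.of k))} (x : T ⟶ GL' k (n + n)) (g : T ⟶ G),
        (blk x).toBlocks₂₁ = 0 → (blk x).toBlocks₁₁ = gmat (g ≫ ι') → ∃ q : T ⟶ H, q ≫ i = x ∧ q ≫ π = g := by
  classical
  -- the lower left block
  let M₀ := MvPolynomial (Fin n × Fin n) k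
  let w : Fin n × Fin n → CoordGrp.GLn (n + n) k := fun p =>
    CoordGrp.GLn.X (finSumFinEquiv (Sum.inr p.1)) (finSumFinEquiv (Sum.inl p.2))
  let LL : GL' k (n + n) ⟶ CoactBr.sp k M₀ := CoactBr.pt (MvPolynomial.aeval w)
  have hLL : ∀ {T : Over (Spec (CommRingCat.of k))} (x : T ⟶ GL' k (n + n)) (a b : Fin n),
      ptHom (x ≫ LL) (MvPolynomial.X (a, b)) = (blk x).toBlocks₂₁ a b := fun {T} x a b => by
    rw [ptHom_comp x (MvPolynomial.aeval w) LL rfl, AlgHom.comp_apply, MvPolynomial.aeval_X]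
    rfl
  obtain ⟨z₀, hz₀⟩ := exists_ptHom_eq (T := 𝟙_ (Over (Spec (CommRingCat.of k))))
    (MvPolynomial.aeval (R := k) fun _ : Fin n × Fin n => (0 : Γ((𝟙_ (Over (Spec (CommRingCat.of k)))).left, ⊤)))
  have hzero : ∀ {T : Over (Spec (CommRingCat.of k))} (x : T ⟶ GL' k (n + n)),
      x ≫ LL = toUnit T ≫ z₀ ↔ (blk x).toBlocks₂₁ = 0 := by
    intro T x
    have h0 : ∀ p, ptHom (toUnit T ≫ z₀) (MvPolynomial.X p) = 0 := fun p => by
      rw [ptHom_comp_left, hz₀, MvPolynomial.aeval_X, map_zero]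
    refine ⟨fun h => Matrix.ext fun a b => by rw [← hLL, h, h0]; rfl, fun h => ptHom_injective ?_⟩
    refine MvPolynomial.algHom_ext fun p => ?_
    rw [h0, ← Prod.mk.eta (p := p), hLL, h]
    rfl
  haveI : IsClosedImmersion z₀.left := by
    haveI : IsSeparated (CoactBr.sp k M₀).hom :=
      inferInstanceAs (IsSeparated (Spec.map (CommRingCat.ofHom (algebraMap k M₀))))
    haveI : IsClosedImmersion (z₀.left ≫ (CoactBr.sp k M₀).hom) := by
      rw [Over.w]
      exact inferInstanceAs (IsClosedImmersion (𝟙 (Spec (CommRingCat.of k))))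
    exact IsClosedImmersion.of_comp z₀.left (CoactBr.sp k M₀).hom
  have sqZ := IsPullback.of_hasPullback LL z₀
  let ζ := pullback.fst LL z₀
  haveI hζ : IsClosedImmersion ζ.left :=
    MorphismProperty.of_isPullback (P := @IsClosedImmersion) (GrpdLib.GrpOver.isPullback_left sqZ).flip ‹_›
  have hζ0 : (blk ζ).toBlocks₂₁ = 0 := (hzero ζ).1 (by
    rw [toUnit_unique (toUnit _) (pullback.snd LL z₀)]; exact sqZ.w)
  have hd : IsUnit (blk ζ).toBlocks₁₁.det := by
    have h := isUnit_det_blk ζ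
    rw [← Matrix.fromBlocks_toBlocks (blk ζ), hζ0, Matrix.det_fromBlocks_zero₂₁] at h
    exact isUnit_of_mul_isUnit_left h
  obtain ⟨UL, hUL⟩ := (DiagRep.glPts k n).mat_exists _ hd
  have hULn : ∀ {T : Over (Spec (CommRingCat.of k))} (t : T ⟶ Limits.pullback LL z₀),
      gmat (t ≫ UL) = (blk (t ≫ ζ)).toBlocks₁₁ := fun {T} t => by
    rw [gmat, (DiagRep.glPts k n).mat_comp, hUL, blk_comp]
    rfl
  have sqH := IsPullback.of_hasPullback UL ι'
  let H := Limits.pullback UL ι'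
  let i : H ⟶ GL' k (n + n) := pullback.fst UL ι' ≫ ζ
  let π : H ⟶ G := pullback.snd UL ι'
  haveI hi : IsClosedImmersion i.left := by
    have : IsClosedImmersion (pullback.fst UL ι').left :=
      MorphismProperty.of_isPullback (P := @IsClosedImmersion) (GrpdLib.GrpOver.isPullback_left sqH).flip ‹_›
    rw [Over.comp_left]
    infer_instance
  haveI : Mono i := Over.mono_of_mono_left i
  have hfac : ∀ {T : Over (Spec (CommRingCat.of k))} (x : T ⟶ GL' k (n + n)) (g : T ⟶ G),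
      (blk x).toBlocks₂₁ = 0 → (blk x).toBlocks₁₁ = gmat (g ≫ ι') → ∃ q : T ⟶ H, q ≫ i = x ∧ q ≫ π = g := by
    intro T x g h0 h1
    let t := sqZ.lift x (toUnit T) ((hzero x).2 h0)
    have ht : t ≫ ζ = x := sqZ.lift_fst _ _ _
    have e : t ≫ UL = g ≫ ι' := (DiagRep.glPts k n).mat_inj (by
      show gmat (t ≫ UL) = gmat (g ≫ ι')
      rw [hULn, ht, h1])
    exact ⟨sqH.lift t g e, by rw [← Category.assoc, sqH.lift_fst, ht], sqH.lift_snd _ _ _⟩
  have hi0 : ∀ {T : Over (Spec (CommRingCat.of k))} (q : T ⟶ H), (blk (q ≫ i)).toBlocks₂₁ = 0 := fun {T} q => by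
    rw [← Category.assoc, blk_comp]
    refine Matrix.ext fun a b => ?_
    show (q ≫ pullback.fst UL ι').left.appTop ((blk ζ).toBlocks₂₁ a b) = 0
    rw [hζ0]; exact map_zero _
  have hi1 : ∀ {T : Over (Spec (CommRingCat.of k))} (q : T ⟶ H),
      (blk (q ≫ i)).toBlocks₁₁ = gmat ((q ≫ π) ≫ ι') := fun {T} q => by
    rw [← Category.assoc, ← hULn, Category.assoc, sqH.w, ← Category.assoc]
  have hρu : ∀ {T : Over (Spec (CommRingCat.of k))} (g : T ⟶ G), gmat (g ≫ ι') * gmat (g⁻¹ ≫ ι') = 1 :=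
    fun {T} g => by rw [← gmat_map_mul, mul_inv_cancel, gmat_map_one]
  have hA : ∀ {T : Over (Spec (CommRingCat.of k))} (q : T ⟶ H), blk (q ≫ i) =
      Matrix.fromBlocks (gmat ((q ≫ π) ≫ ι')) (blk (q ≫ i)).toBlocks₁₂ 0 (blk (q ≫ i)).toBlocks₂₂ := fun {T} q => by
    conv_lhs => rw [← Matrix.fromBlocks_toBlocks (blk (q ≫ i))]
    rw [hi0, hi1]
  -- closure under the operations
  have hmul : ∀ {T : Over (Spec (CommRingCat.of k))} (a b : T ⟶ H),
      ∃ q : T ⟶ H, q ≫ i = (a ≫ i) * (b ≫ i) ∧ q ≫ π = (a ≫ π) * (b ≫ π) := by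
    intro T a b
    have h : blk ((a ≫ i) * (b ≫ i)) = Matrix.fromBlocks (gmat ((a ≫ π) ≫ ι')) (blk (a ≫ i)).toBlocks₁₂ 0
        (blk (a ≫ i)).toBlocks₂₂ * Matrix.fromBlocks (gmat ((b ≫ π) ≫ ι')) (blk (b ≫ i)).toBlocks₁₂ 0
        (blk (b ≫ i)).toBlocks₂₂ := by
      rw [blk_mul, ← hA, ← hA]
    rw [Matrix.fromBlocks_multiply] at h
    refine hfac _ _ ?_ ?_
    · rw [h, Matrix.toBlocks_fromBlocks₂₁]; simp
    · rw [h, Matrix.toBlocks_fromBlocks₁₁, gmat_map_mul]; simp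
  have hinv : ∀ {T : Over (Spec (CommRingCat.of k))} (a : T ⟶ H),
      ∃ q : T ⟶ H, q ≫ i = (a ≫ i)⁻¹ ∧ q ≫ π = (a ≫ π)⁻¹ := by
    intro T a
    have h : Matrix.fromBlocks (gmat ((a ≫ π) ≫ ι')) (blk (a ≫ i)).toBlocks₁₂ 0 (blk (a ≫ i)).toBlocks₂₂ *
        Matrix.fromBlocks (blk (a ≫ i)⁻¹).toBlocks₁₁ (blk (a ≫ i)⁻¹).toBlocks₁₂ (blk (a ≫ i)⁻¹).toBlocks₂₁
          (blk (a ≫ i)⁻¹).toBlocks₂₂ = Matrix.fromBlocks 1 0 0 1 := by
      rw [Matrix.fromBlocks_toBlocks, ← hA, ← blk_mul, mul_inv_cancel, blk_one, Matrix.fromBlocks_one]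
    rw [Matrix.fromBlocks_multiply, Matrix.fromBlocks_inj] at h
    obtain ⟨h11, -, h21, -⟩ := h
    have hu : IsUnit (blk (a ≫ i)).toBlocks₂₂.det := by
      have h := isUnit_det_blk (a ≫ i)
      rw [← Matrix.fromBlocks_toBlocks (blk (a ≫ i)), hi0 a, Matrix.det_fromBlocks_zero₂₁] at h
      exact isUnit_of_mul_isUnit_right h
    rw [Matrix.zero_mul, zero_add] at h21
    have hz : (blk (a ≫ i)⁻¹).toBlocks₂₁ = 0 :=
      ((Matrix.isUnit_iff_isUnit_det _).2 hu).mul_left_cancel (h21.trans (Matrix.mul_zero _).symm)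
    rw [hz, Matrix.mul_zero, add_zero] at h11
    refine hfac _ _ hz ?_
    have := congrArg (gmat ((a ≫ π)⁻¹ ≫ ι') * ·) h11
    simp only [Matrix.mul_one, ← Matrix.mul_assoc, mul_eq_one_comm.1 (hρu (a ≫ π)), Matrix.one_mul] at this
    exact this
  obtain ⟨e, he, heπ⟩ := hfac (1 : 𝟙_ (Over (Spec (CommRingCat.of k))) ⟶ _) 1
    (by rw [blk_one, ← Matrix.fromBlocks_one, Matrix.toBlocks_fromBlocks₂₁])
    (by rw [blk_one, ← Matrix.fromBlocks_one, Matrix.toBlocks_fromBlocks₁₁, gmat_map_one])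
  obtain ⟨m, hm, hmπ⟩ := hmul (fst H H) (snd H H)
  obtain ⟨v, hv, hvπ⟩ := hinv (𝟙 H)
  rw [Category.id_comp] at hv hvπ
  letI := GrpdLib.OrbitQuot.subgroup i m e v hm he hv
  have hmon : IsMonHom i := GrpdLib.OrbitQuot.isMonHom_incl i m e v hm he hv
  refine ⟨H, this, i, π, hmon, @IsMonHom.mk _ _ _ _ _ _ _ π ?_ ?_, hi, hfac⟩
  · exact heπ.trans (MonObj.one_eq_one _).symm
  · show m ≫ π = (π ⊗ₘ π) ≫ μ
    rw [hmπ, MonObj.mul_eq_mul, MonObj.comp_mul, tensorHom_fst, tensorHom_snd]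

/-- Scalar multiples under a ring map. -/
theorem smul_map {R R' F : Type*} [CommRing R] [CommRing R'] [FunLike F R R'] [RingHomClass F R R']
    (f : F) (c : R) (M : Matrix (Fin n) (Fin n) R) : (c • M).map f = f c • M.map f :=
  Matrix.ext fun a b => map_mul f c (M a b)

/-- A retraction equivariant for the block subgroup, in terms of algebra-valued points. -/
theorem retraction_blkR (r : GL' k (n + n) ⟶ G)
    (hr : ∀ {T : Over (Spec (CommRingCat.of k))} (x q : T ⟶ GL' k (n + n)) (g : T ⟶ G),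
      (blk q).toBlocks₂₁ = 0 → (blk q).toBlocks₁₁ = gmat (g ≫ ι') → (x * q) ≫ r = g⁻¹ * (x ≫ r))
    {R : Type u} [CommRing R] [Algebra k R] (x q : CoactBr.sp k R ⟶ GL' k (n + n))
    (g : CoactBr.sp k R ⟶ G) (b d : Matrix (Fin n) (Fin n) R)
    (hq : blkR q = Matrix.fromBlocks ((gmat (g ≫ ι')).map (secR R)) b 0 d) :
    (x * q) ≫ r = g⁻¹ * (x ≫ r) := by
  have h2 : ∀ a b, secR R ((blk q) a b) = (blkR q) a b := fun _ _ => rfl
  refine hr x q g (Matrix.ext fun a c => (bijective_secR R).1 ?_) (Matrix.ext fun a c => (bijective_secR R).1 ?_)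
  · show secR R (blk q (Sum.inr a) (Sum.inl c)) = secR R 0
    rw [h2, hq, map_zero]; rfl
  · show secR R (blk q (Sum.inl a) (Sum.inl c)) = _
    rw [h2, hq]; rfl

set_option maxHeartbeats 800000 in
/-- The points of `G` on the plane attached to a matrix. -/
theorem exists_family {A : Type u} [CommRing A] [Algebra k A] (e : CoactBr.sp k A ≅ G)
    (r : GL' k (n + n) ⟶ G)
    (hr : ∀ {T : Over (Spec (CommRingCat.of k))} (x q : T ⟶ GL' k (n + n)) (g : T ⟶ G),
      (blk q).toBlocks₂₁ = 0 → (blk q).toBlocks₁₁ = gmat (g ≫ ι') → (x * q) ≫ r = g⁻¹ * (x ≫ r))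
    (j₁ : Localization.Away (tv A) →ₐ[k] Localization.Away (tv A * sv A))
    (hj₁ : ∀ p, j₁ (algebraMap (P2 A) _ p) = IsScalarTower.toAlgHom k (P2 A) _ p)
    (j₂ : Localization.Away (sv A) →ₐ[k] Localization.Away (tv A * sv A))
    (hj₂ : ∀ p, j₂ (algebraMap (P2 A) _ p) = IsScalarTower.toAlgHom k (P2 A) _ p)
    (M : Matrix (Fin n) (Fin n) A) (hM : IsUnit M.det) :
    letI ι₁ : P2 A →ₐ[k] Localization.Away (tv A) := IsScalarTower.toAlgHom k (P2 A) _
    letI ι₂ : P2 A →ₐ[k] Localization.Away (sv A) := IsScalarTower.toAlgHom k (P2 A) _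
    letI cA : A →ₐ[k] P2 A := IsScalarTower.toAlgHom k A (P2 A)
    ∃ (x₁ : CoactBr.sp k (Localization.Away (tv A)) ⟶ GL' k (n + n))
      (x₂ : CoactBr.sp k (Localization.Away (sv A)) ⟶ GL' k (n + n)) (z : CoactBr.sp k (P2 A) ⟶ G),
      blkR x₁ = Matrix.fromBlocks (ι₁ (tv A) • M.map (ι₁.comp cA)) 0 (ι₁ (sv A) • 1) 1 ∧
      blkR x₂ = Matrix.fromBlocks (ι₂ (tv A) • M.map (ι₂.comp cA)) 1 (ι₂ (sv A) • 1) 0 ∧
      CoactBr.pt ι₁ ≫ z = x₁ ≫ r ∧ CoactBr.pt ι₂ ≫ z = x₂ ≫ r := by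
  let ι₁ : P2 A →ₐ[k] Localization.Away (tv A) := IsScalarTower.toAlgHom k (P2 A) _
  let ι₂ : P2 A →ₐ[k] Localization.Away (sv A) := IsScalarTower.toAlgHom k (P2 A) _
  let cA : A →ₐ[k] P2 A := IsScalarTower.toAlgHom k A (P2 A)
  let L₁₂ := Localization.Away (tv A * sv A)
  let ι₁₂ : P2 A →ₐ[k] L₁₂ := IsScalarTower.toAlgHom k (P2 A) L₁₂
  have hu12 : IsUnit (ι₁₂ (tv A)) ∧ IsUnit (ι₁₂ (sv A)) := by
    have := IsLocalization.Away.algebraMap_isUnit (S := L₁₂) (tv A * sv A)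
    rw [map_mul] at this
    exact ⟨isUnit_of_mul_isUnit_left this, isUnit_of_mul_isUnit_right this⟩
  have hu : ∀ {R : Type u} [CommRing R] [Algebra k R] (f : A →ₐ[k] R), IsUnit (M.map f).det := by
    intro R _ _ f
    have := hM.map f.toRingHom
    rwa [RingHom.map_det] at this
  obtain ⟨x₁, hx₁⟩ := exists_blkR_eq (k := k)
    (Matrix.fromBlocks (ι₁ (tv A) • M.map (ι₁.comp cA)) 0 (ι₁ (sv A) • 1) 1) (by
      rw [Matrix.det_fromBlocks_zero₁₂, Matrix.det_one, _root_.mul_one, Matrix.det_smul]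
      exact ((IsLocalization.Away.algebraMap_isUnit (S := Localization.Away (tv A)) (tv A)).pow _).mul (hu _))
  obtain ⟨x₂, hx₂⟩ := exists_blkR_eq (k := k)
    (Matrix.fromBlocks (ι₂ (tv A) • M.map (ι₂.comp cA)) 1 (ι₂ (sv A) • 1) 0) (by
      refine isUnit_det_one_corner _ _ ?_
      rw [Matrix.det_smul, Matrix.det_one, _root_.mul_one]
      exact (IsLocalization.Away.algebraMap_isUnit (S := Localization.Away (sv A)) (sv A)).pow _)
  let a := ι₁₂ (tv A) • M.map (ι₁₂.comp cA)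
  let c : Matrix (Fin n) (Fin n) L₁₂ := ι₁₂ (sv A) • 1
  have ha : IsUnit a.det := by
    show IsUnit (ι₁₂ (tv A) • M.map (ι₁₂.comp cA)).det
    rw [Matrix.det_smul]; exact (hu12.1.pow _).mul (hu _)
  have hm₁ : (M.map (ι₁.comp cA)).map j₁ = M.map (ι₁₂.comp cA) := Matrix.ext fun i j => hj₁ _
  have hm₂ : (M.map (ι₂.comp cA)).map j₂ = M.map (ι₁₂.comp cA) := Matrix.ext fun i j => hj₂ _
  have hone₁ : (1 : Matrix (Fin n) (Fin n) (Localization.Away (tv A))).map j₁ = 1 :=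
    Matrix.map_one _ (map_zero _) (map_one _)
  have hone₂ : (1 : Matrix (Fin n) (Fin n) (Localization.Away (sv A))).map j₂ = 1 :=
    Matrix.map_one _ (map_zero _) (map_one _)
  have hb₁ : blkR (CoactBr.pt j₁ ≫ x₁) = Matrix.fromBlocks a 0 c 1 := by
    rw [blkR_comp, hx₁, Matrix.fromBlocks_map, smul_map, smul_map, hm₁, hone₁,
      show j₁ (ι₁ (tv A)) = ι₁₂ (tv A) from hj₁ _, show j₁ (ι₁ (sv A)) = ι₁₂ (sv A) from hj₁ _,
      Matrix.map_zero _ (map_zero _)]
  have hb₂ : blkR (CoactBr.pt j₂ ≫ x₂) = Matrix.fromBlocks a 1 c 0 := by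
    rw [blkR_comp, hx₂, Matrix.fromBlocks_map, smul_map, smul_map, hm₂, hone₂,
      show j₂ (ι₂ (tv A)) = ι₁₂ (tv A) from hj₂ _, show j₂ (ι₂ (sv A)) = ι₁₂ (sv A) from hj₂ _,
      Matrix.map_zero _ (map_zero _)]
  obtain ⟨q, hq⟩ := exists_blkR_eq (k := k) (Matrix.fromBlocks 1 a⁻¹ 0 (-(c * a⁻¹))) (by
    rw [Matrix.det_fromBlocks_zero₂₁, Matrix.det_one, _root_.one_mul, Matrix.det_neg, Matrix.det_mul]
    refine (IsUnit.neg isUnit_one).pow _ |>.mul (IsUnit.mul ?_ (Matrix.isUnit_nonsing_inv_det a ha))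
    show IsUnit (ι₁₂ (sv A) • (1 : Matrix (Fin n) (Fin n) L₁₂)).det
    rw [Matrix.det_smul, Matrix.det_one, _root_.mul_one]
    exact hu12.2.pow _)
  have hx12 : CoactBr.pt j₂ ≫ x₂ = (CoactBr.pt j₁ ≫ x₁) * q := by
    refine blkR_injective ?_
    rw [blkR_mul, hb₁, hb₂, hq, Matrix.fromBlocks_multiply]
    rw [Matrix.mul_one, Matrix.zero_mul, add_zero, Matrix.mul_zero, add_zero, Matrix.one_mul,
      Matrix.mul_nonsing_inv a ha, add_neg_cancel, Matrix.mul_one, Matrix.zero_mul, add_zero]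
  have hagree : CoactBr.pt j₁ ≫ x₁ ≫ r = CoactBr.pt j₂ ≫ x₂ ≫ r := by
    rw [← Category.assoc, ← Category.assoc, hx12, retraction_blkR ι' r hr _ q 1 _ _ (by
      rw [gmat_map_one, Matrix.map_one _ (map_zero _) (map_one _)]; exact hq), inv_one, _root_.one_mul]
  obtain ⟨φ, h₁, h₂⟩ := exists_glue (k := k) A ι₁ (fun _ => rfl) ι₂ (fun _ => rfl) j₁ hj₁ j₂ hj₂
    (val (x₁ ≫ r ≫ e.inv)) (val (x₂ ≫ r ≫ e.inv))
    (by rw [← val_comp, ← val_comp]; simp only [← Category.assoc] at hagree ⊢; rw [hagree])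
  obtain ⟨z', hz'⟩ := (bijective_val (k := k)).2 φ
  refine ⟨x₁, x₂, z' ≫ e.hom, hx₁, hx₂, ?_, ?_⟩
  · have : CoactBr.pt ι₁ ≫ z' = x₁ ≫ r ≫ e.inv := bijective_val.1 (by rw [val_comp, hz', h₁])
    rw [reassoc_of% this, e.inv_hom_id, Category.comp_id]
  · have : CoactBr.pt ι₂ ≫ z' = x₂ ≫ r ≫ e.inv := bijective_val.1 (by rw [val_comp, hz', h₂])
    rw [reassoc_of% this, e.inv_hom_id, Category.comp_id]

set_option maxHeartbeats 1600000 in
/-- There is no retraction compatible with the block subgroup, unless the group is trivial. -/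
theorem eq_one_of_retraction {A : Type u} [CommRing A] [Algebra k A] (e : CoactBr.sp k A ≅ G)
    (r : GL' k (n + n) ⟶ G)
    (hr : ∀ {T : Over (Spec (CommRingCat.of k))} (x q : T ⟶ GL' k (n + n)) (g : T ⟶ G),
      (blk q).toBlocks₂₁ = 0 → (blk q).toBlocks₁₁ = gmat (g ≫ ι') → (x * q) ≫ r = g⁻¹ * (x ≫ r)) :
    e.hom = 1 := by
  classical
  let gR : ∀ {R : Type u} [CommRing R] [Algebra k R], (CoactBr.sp k R ⟶ G) → Matrix (Fin n) (Fin n) R :=
    fun {R} _ _ g => (gmat (g ≫ ι')).map (secR R)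
  have gRn : ∀ {R R' : Type u} [CommRing R] [Algebra k R] [CommRing R'] [Algebra k R'] (f : R →ₐ[k] R')
      (g : CoactBr.sp k R ⟶ G), gR (CoactBr.pt f ≫ g) = (gR g).map f := by
    intro R R' _ _ _ _ f g
    refine Matrix.ext fun a b => ?_
    show secR R' (gmat ((CoactBr.pt f ≫ g) ≫ ι') a b) = _
    rw [gmat, Category.assoc, (DiagRep.glPts k n).mat_comp]
    exact secR_natural f _
  have gR1 : ∀ (R : Type u) [CommRing R] [Algebra k R], gR (1 : CoactBr.sp k R ⟶ G) = 1 := by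
    intro R _ _
    show (gmat _).map _ = 1
    rw [gmat_map_one, Matrix.map_one _ (map_zero _) (map_one _)]
  have gRu : ∀ {R : Type u} [CommRing R] [Algebra k R] (g : CoactBr.sp k R ⟶ G), IsUnit (gR g).det := by
    intro R _ _ g
    have := ((DiagRep.glPts k n).isUnit_mat (g ≫ ι')).map (secR (k := k) R)
    rwa [RingHom.map_det] at this
  have hrR : ∀ {R : Type u} [CommRing R] [Algebra k R] (x q : CoactBr.sp k R ⟶ GL' k (n + n))
      (g : CoactBr.sp k R ⟶ G) (b d : Matrix (Fin n) (Fin n) R),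
      blkR q = Matrix.fromBlocks (gR g) b 0 d → (x * q) ≫ r = g⁻¹ * (x ≫ r) :=
    fun x q g b d hq => retraction_blkR ι' r hr x q g b d hq
  -- the rings
  let B := P2 A
  let L₁ := Localization.Away (tv A)
  let L₂ := Localization.Away (sv A)
  let L₁₂ := Localization.Away (tv A * sv A)
  let P₁ := Localization.Away (Polynomial.X : Polynomial A)
  let ι₁ : B →ₐ[k] L₁ := IsScalarTower.toAlgHom k B L₁
  let ι₂ : B →ₐ[k] L₂ := IsScalarTower.toAlgHom k B L₂
  let ι₁₂ : B →ₐ[k] L₁₂ := IsScalarTower.toAlgHom k B L₁₂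
  let cA : A →ₐ[k] B := IsScalarTower.toAlgHom k A B
  have ext_lift : ∀ {L C : Type u} [CommRing L] [CommRing C] [Algebra k C] [Algebra B L] [Algebra k L]
      [IsScalarTower k B L] (x : B) [IsLocalization.Away x L] (f : B →ₐ[k] C), IsUnit (f x) →
      ∃ j : L →ₐ[k] C, ∀ p, j (algebraMap B L p) = f p := by
    intro L C _ _ _ _ _ _ x _ f hx
    have hl : ∀ p, IsLocalization.Away.lift x (g := f.toRingHom) hx (algebraMap B L p) = f p :=
      fun p => IsLocalization.Away.lift_eq x hx p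
    exact ⟨⟨IsLocalization.Away.lift x (g := f.toRingHom) hx, fun c => by
      show IsLocalization.Away.lift x (g := f.toRingHom) hx (algebraMap k L c) = _
      rw [IsScalarTower.algebraMap_apply k B L, hl, AlgHom.commutes]⟩, hl⟩
  have hu12 : IsUnit (ι₁₂ (tv A)) ∧ IsUnit (ι₁₂ (sv A)) := by
    have := IsLocalization.Away.algebraMap_isUnit (S := L₁₂) (tv A * sv A)
    rw [map_mul] at this
    exact ⟨isUnit_of_mul_isUnit_left this, isUnit_of_mul_isUnit_right this⟩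
  obtain ⟨j₁, hj₁⟩ := ext_lift (L := L₁) (tv A) ι₁₂ hu12.1
  obtain ⟨j₂, hj₂⟩ := ext_lift (L := L₂) (sv A) ι₁₂ hu12.2
  let ev₀ : B →ₐ[k] Polynomial A := (Polynomial.aeval (R := Polynomial A) (0 : Polynomial A)).restrictScalars k
  let a₀ : Polynomial A →ₐ[k] A := (Polynomial.aeval (R := A) (0 : A)).restrictScalars k
  let evt : B →ₐ[k] Polynomial A := Polynomial.mapAlgHom a₀
  let κ : Polynomial A →ₐ[k] P₁ := IsScalarTower.toAlgHom k (Polynomial A) P₁
  have hX : IsUnit (κ Polynomial.X) := IsLocalization.Away.algebraMap_isUnit (S := P₁) (Polynomial.X : Polynomial A)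
  have e0t : ev₀ (tv A) = Polynomial.X := Polynomial.aeval_C _ _
  have e0s : ev₀ (sv A) = 0 := Polynomial.aeval_X _
  have ett : evt (tv A) = 0 := by
    show (Polynomial.C Polynomial.X).map a₀.toRingHom = 0
    simp [a₀]
  have ets : evt (sv A) = Polynomial.X := by
    show (Polynomial.X : P2 A).map a₀.toRingHom = Polynomial.X
    simp
  obtain ⟨l₁, hl₁⟩ := ext_lift (L := L₁) (tv A) (κ.comp ev₀) (by rw [AlgHom.comp_apply, e0t]; exact hX)
  obtain ⟨l₂, hl₂⟩ := ext_lift (L := L₂) (sv A) (κ.comp evt) (by rw [AlgHom.comp_apply, ets]; exact hX)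
  -- the family of points attached to a matrix
  have fam := exists_family ι' e r hr j₁ hj₁ j₂ hj₂
  have inj : ∀ {z z' : CoactBr.sp k (Polynomial A) ⟶ G}, CoactBr.pt κ ≫ z = CoactBr.pt κ ≫ z' → z = z' := by
    intro z z' h
    have hκ : Function.Injective κ :=
      IsLocalization.injective P₁ (Submonoid.powers_le.2 Polynomial.monic_X.mem_nonZeroDivisors)
    have h' := congrArg (fun m => val (m ≫ e.inv)) h
    simp only [Category.assoc, val_comp] at h'
    rw [← cancel_mono e.inv]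
    exact bijective_val.1 (AlgHom.ext fun b => hκ (congrArg (fun m => (m : A →ₐ[k] P₁) b) h' :))
  obtain ⟨x₁, x₂, zM, hx₁, hx₂, hzM₁, hzM₂⟩ := fam (gR (e.hom⁻¹)) (gRu _)
  obtain ⟨y₁, y₂, z1, hy₁, hy₂, hz1₁, hz1₂⟩ := fam 1 (by rw [Matrix.det_one]; exact isUnit_one)
  have hκ₁ : ∀ p, l₁ (ι₁ p) = κ (ev₀ p) := hl₁
  have hκ₂ : ∀ p, l₂ (ι₂ p) = κ (evt p) := hl₂
  have hc1 : CoactBr.pt ι₁ = CoactBr.pt ι₁ := rfl
  have hl₁' : CoactBr.pt l₁ ≫ CoactBr.pt ι₁ = CoactBr.pt κ ≫ CoactBr.pt ev₀ := by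
    rw [← CoactBr.pt_comp, ← CoactBr.pt_comp, AlgHom.ext (φ₁ := l₁.comp ι₁) (φ₂ := κ.comp ev₀) hκ₁]
  have hl₂' : CoactBr.pt l₂ ≫ CoactBr.pt ι₂ = CoactBr.pt κ ≫ CoactBr.pt evt := by
    rw [← CoactBr.pt_comp, ← CoactBr.pt_comp, AlgHom.ext (φ₁ := l₂.comp ι₂) (φ₂ := κ.comp evt) hκ₂]
  let cP : A →ₐ[k] Polynomial A := IsScalarTower.toAlgHom k A (Polynomial A)
  have e0c : ∀ a, ev₀ (cA a) = cP a := fun a => by simp [ev₀, cA, cP, IsScalarTower.algebraMap_apply A (Polynomial A) B]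
  have etc : ∀ a, evt (cA a) = cP a := fun a => by
    show (Polynomial.C (Polynomial.C a)).map a₀.toRingHom = Polynomial.C a
    simp [a₀]
  -- claim along `s = 0`
  have claim1 : CoactBr.pt ev₀ ≫ zM = (CoactBr.pt cP ≫ e.hom) * (CoactBr.pt ev₀ ≫ z1) := by
    refine inj ?_
    rw [MonObj.comp_mul, ← reassoc_of% hl₁', ← reassoc_of% hl₁', hzM₁, hz1₁, ← Category.assoc, ← Category.assoc]
    obtain ⟨q, hq⟩ := exists_blkR_eq (k := k) (R := P₁)
      (Matrix.fromBlocks (gR (CoactBr.pt (κ.comp cP) ≫ e.hom⁻¹)) 0 0 1) (by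
        rw [Matrix.det_fromBlocks_zero₂₁, Matrix.det_one, _root_.mul_one]; exact gRu _)
    have hxy : CoactBr.pt l₁ ≫ x₁ = (CoactBr.pt l₁ ≫ y₁) * q := by
      refine blkR_injective ?_
      have hm : ∀ M : Matrix (Fin n) (Fin n) A, (M.map (ι₁.comp cA)).map l₁ = M.map (κ.comp cP) := fun M =>
        Matrix.ext fun i j => (hκ₁ _).trans (congrArg κ (e0c _))
      rw [blkR_mul, blkR_comp, blkR_comp, hx₁, hy₁, hq, gRn, Matrix.fromBlocks_map, Matrix.fromBlocks_map,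
        smul_map, smul_map, smul_map, hm, hm, hκ₁, hκ₁, e0t, e0s, map_zero κ, zero_smul,
        Matrix.map_one _ (map_zero l₁) (map_one l₁), Matrix.map_zero _ (map_zero l₁),
        Matrix.map_one _ (map_zero (κ.comp cP)) (map_one (κ.comp cP)), Matrix.fromBlocks_multiply]
      simp
    rw [hxy, hrR _ q _ _ _ hq, GrpObj.comp_inv, _root_.inv_inv, ← CoactBr.pt_comp, Category.assoc]
  -- claim along `t = 0`
  have claim2 : CoactBr.pt evt ≫ zM = CoactBr.pt evt ≫ z1 := by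
    refine inj ?_
    rw [← reassoc_of% hl₂', ← reassoc_of% hl₂', hzM₂, hz1₂, ← Category.assoc, ← Category.assoc]
    congr 1
    refine blkR_injective ?_
    rw [blkR_comp, blkR_comp, hx₂, hy₂, Matrix.fromBlocks_map, Matrix.fromBlocks_map, smul_map, smul_map, smul_map,
      hκ₂, ett, map_zero κ, zero_smul, zero_smul]
  have hev : CoactBr.pt a₀ ≫ CoactBr.pt ev₀ = CoactBr.pt a₀ ≫ CoactBr.pt evt := by
    rw [← CoactBr.pt_comp, ← CoactBr.pt_comp]
    congr 1
    refine AlgHom.ext fun p => ?_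
    show Polynomial.aeval (R := A) (0 : A) (Polynomial.aeval (R := Polynomial A) (0 : Polynomial A) p) =
      Polynomial.aeval (R := A) (0 : A) (p.map a₀.toRingHom)
    simp [Polynomial.coe_aeval_eq_eval, ← Polynomial.coeff_zero_eq_eval_zero, a₀]
  have hac : CoactBr.pt a₀ ≫ CoactBr.pt cP = 𝟙 _ := by
    rw [← CoactBr.pt_comp, ← CoactBr.pt_id]
    congr 1
    exact AlgHom.ext fun a => by simp [a₀, cP]
  have h1 := congrArg (CoactBr.pt a₀ ≫ ·) claim1
  have h2 := congrArg (CoactBr.pt a₀ ≫ ·) claim2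
  simp only [MonObj.comp_mul, reassoc_of% hev, reassoc_of% hac] at h1 h2
  rw [h2] at h1
  exact right_eq_mul.1 h1

end Groth.Agent.GITLib.NontrivTorsor
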