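import Groth.Agent.GrpScheme.DiagRep

/-!
# Points of affine schemes with values in algebras, and matrices

* `val`/`bijective_val` : points `Spec R → Spec B` as algebra maps
* `exists_glue` : points on the two basic opens `t ≠ 0`, `s ≠ 0` of the plane over `A` extend to the plane
* `blk` : the four blocks of a point of `GL_{n+n}`
-/

set_option autoImplicit false
set_option linter.style.haveILetI false
set_option backward.isDefEq.respectTransparency false
set_option synthInstance.maxHeartbeats 400000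

universe u

open CategoryTheory MonoidalCategory CartesianMonoidalCategory MonObj GrpObj AlgebraicGeometry Limits
open Groth.Agent.SekLib Groth.Agent.GrpScheme

noncomputable section

namespace Groth.Agent.GITLib.NontrivTorsor

variable {k : Type u} [Field k]

attribute [local instance] secAlgebra

/-- Global sections of `Spec R`. -/
def secR (R : Type u) [CommRing R] [Algebra k R] : Γ((CoactBr.sp k R).left, ⊤) →+* R :=
  (Scheme.ΓSpecIso (CommRingCat.of R)).hom.hom

theorem bijective_secR (R : Type u) [CommRing R] [Algebra k R] : Function.Bijective (secR (k := k) R) :=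
  ConcreteCategory.bijective_of_isIso (Scheme.ΓSpecIso (CommRingCat.of R)).hom

theorem secR_natural {R R' : Type u} [CommRing R] [Algebra k R] [CommRing R'] [Algebra k R'] (f : R →ₐ[k] R')
    (a : Γ((CoactBr.sp k R).left, ⊤)) : secR R' ((CoactBr.pt f).left.appTop a) = f (secR R a) :=
  (congrArg (fun m => CommRingCat.Hom.hom m a) (Scheme.ΓSpecIso_naturality (CommRingCat.ofHom f.toRingHom)) :)

theorem secR_algebraMap (R : Type u) [CommRing R] [Algebra k R] (c : k) :
    secR R (algebraMap k Γ((CoactBr.sp k R).left, ⊤) c) = algebraMap k R c :=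
  (congrArg (fun m => CommRingCat.Hom.hom m ((Scheme.ΓSpecIso (CommRingCat.of k)).inv c))
      (Scheme.ΓSpecIso_naturality (CommRingCat.ofHom (algebraMap k R))) :).trans
    (congrArg (algebraMap k R) (Iso.inv_hom_id_apply (Scheme.ΓSpecIso (CommRingCat.of k)) c))

variable {B : Type u} [CommRing B] [Algebra k B]

/-- The algebra map of a point. -/
def val {R : Type u} [CommRing R] [Algebra k R] (z : CoactBr.sp k R ⟶ CoactBr.sp k B) : B →ₐ[k] R where
  __ := (secR R).comp (ptHom z).toRingHom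
  commutes' c := by
    show secR R (ptHom z (algebraMap k B c)) = _
    rw [AlgHom.commutes]
    exact secR_algebraMap R c

theorem val_comp {R R' : Type u} [CommRing R] [Algebra k R] [CommRing R'] [Algebra k R'] (f : R →ₐ[k] R')
    (z : CoactBr.sp k R ⟶ CoactBr.sp k B) : val (CoactBr.pt f ≫ z) = f.comp (val z) :=
  AlgHom.ext fun a => by
    show secR R' (ptHom (CoactBr.pt f ≫ z) a) = f (secR R (ptHom z a))
    rw [ptHom_comp_left]
    exact secR_natural f _

theorem bijective_val {R : Type u} [CommRing R] [Algebra k R] :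
    Function.Bijective (val (k := k) (B := B) (R := R)) := by
  refine ⟨fun z z' h => ptHom_injective (AlgHom.ext fun a => (bijective_secR R).1 ?_), fun φ => ?_⟩
  · exact (congrArg (fun m => (m : B →ₐ[k] R) a) h :)
  · let e : Γ((CoactBr.sp k R).left, ⊤) →ₐ[k] R :=
      { secR R with commutes' := secR_algebraMap R }
    let e' := AlgEquiv.ofBijective e (bijective_secR R)
    obtain ⟨z, hz⟩ := exists_ptHom_eq (T := CoactBr.sp k R) (e'.symm.toAlgHom.comp φ)
    refine ⟨z, AlgHom.ext fun a => ?_⟩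
    show secR R (ptHom z a) = φ a
    rw [hz]
    exact e'.apply_symm_apply (φ a)

section Glue

variable (A : Type u) [CommRing A] [Algebra k A]

/-- The plane over `A`. -/
abbrev P2 : Type u := Polynomial (Polynomial A)

/-- The first coordinate. -/
def tv : P2 A := Polynomial.C Polynomial.X

/-- The second coordinate. -/
def sv : P2 A := Polynomial.X

theorem tv_mem : tv A ∈ nonZeroDivisors (P2 A) := by
  refine mem_nonZeroDivisors_iff_right.2 fun x hx => ?_
  ext1 d
  have := congrArg (fun p => Polynomial.coeff p d) hx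
  simp only [tv, Polynomial.coeff_mul_C, Polynomial.coeff_zero] at this
  rw [Polynomial.coeff_zero]
  exact (Polynomial.monic_X.mem_nonZeroDivisors.2) _ this

theorem sv_mem : sv A ∈ nonZeroDivisors (P2 A) := Polynomial.monic_X.mem_nonZeroDivisors

theorem exists_glue {L₁ L₂ L₁₂ : Type u} [CommRing L₁] [CommRing L₂] [CommRing L₁₂] [Algebra (P2 A) L₁]
    [Algebra (P2 A) L₂] [Algebra (P2 A) L₁₂] [IsLocalization.Away (tv A) L₁] [IsLocalization.Away (sv A) L₂]
    [IsLocalization.Away (tv A * sv A) L₁₂] [Algebra k L₁] [Algebra k L₂] [Algebra k L₁₂]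
    (ι₁ : P2 A →ₐ[k] L₁) (hι₁ : ∀ p, ι₁ p = algebraMap (P2 A) L₁ p)
    (ι₂ : P2 A →ₐ[k] L₂) (hι₂ : ∀ p, ι₂ p = algebraMap (P2 A) L₂ p)
    (j₁ : L₁ →ₐ[k] L₁₂) (hj₁ : ∀ p, j₁ (ι₁ p) = algebraMap (P2 A) L₁₂ p)
    (j₂ : L₂ →ₐ[k] L₁₂) (hj₂ : ∀ p, j₂ (ι₂ p) = algebraMap (P2 A) L₁₂ p)
    (φ₁ : B →ₐ[k] L₁) (φ₂ : B →ₐ[k] L₂) (h : j₁.comp φ₁ = j₂.comp φ₂) :
    ∃ φ : B →ₐ[k] P2 A, ι₁.comp φ = φ₁ ∧ ι₂.comp φ = φ₂ := by
  have hinj₁ : Function.Injective ι₁ := fun p q e => IsLocalization.injective L₁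
    (Submonoid.powers_le.2 (tv_mem A)) (by rw [← hι₁, ← hι₁, e])
  have hinj₁₂ : Function.Injective (algebraMap (P2 A) L₁₂) :=
    IsLocalization.injective L₁₂ (Submonoid.powers_le.2 (mul_mem (tv_mem A) (sv_mem A)))
  have key : ∀ b, ∃ p, ι₁ p = φ₁ b ∧ ι₂ p = φ₂ b := by
    intro b
    obtain ⟨i, p₁, hp₁⟩ := IsLocalization.Away.surj (tv A) (φ₁ b)
    obtain ⟨j, p₂, hp₂⟩ := IsLocalization.Away.surj (sv A) (φ₂ b)
    have e : p₁ * sv A ^ j = p₂ * tv A ^ i := by
      apply hinj₁₂
      have e₁ := congrArg j₁ hp₁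
      have e₂ := congrArg j₂ hp₂
      have hb : j₁ (φ₁ b) = j₂ (φ₂ b) := (congrArg (fun m => (m : B →ₐ[k] L₁₂) b) h :)
      rw [← hι₁, ← hι₁, map_mul, map_pow, hj₁, hj₁] at e₁
      rw [← hι₂, ← hι₂, map_mul, map_pow, hj₂, hj₂] at e₂
      rw [map_mul, map_mul, map_pow, map_pow, ← e₁, ← e₂, hb]
      ring
    have hd : tv A ^ i ∣ p₁ := by
      simp only [tv, ← map_pow, Polynomial.C_dvd_iff_dvd_coeff] at e ⊢
      intro d
      have := congrArg (fun p => Polynomial.coeff p (d + j)) e
      simp only [sv, Polynomial.coeff_mul_X_pow, Polynomial.coeff_mul_C] at this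
      exact ⟨p₂.coeff (d + j), this.trans (mul_comm _ _)⟩
    obtain ⟨p, rfl⟩ := hd
    have hu : IsUnit (algebraMap (P2 A) L₁ (tv A ^ i)) := by
      rw [map_pow]; exact (IsLocalization.Away.algebraMap_isUnit (tv A)).pow i
    refine ⟨p, ?_, ?_⟩
    · refine hu.mul_left_cancel ?_
      rw [hι₁, ← map_mul, ← hp₁, map_pow, mul_comm]
    · have hu' : IsUnit (algebraMap (P2 A) L₂ (sv A ^ j)) := by
        rw [map_pow]; exact (IsLocalization.Away.algebraMap_isUnit (sv A)).pow j
      refine hu'.mul_left_cancel ?_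
      have e' : p₂ = sv A ^ j * p := by
        have hn : tv A ^ i ∈ nonZeroDivisors (P2 A) := pow_mem (tv_mem A) i
        refine (mul_cancel_right_mem_nonZeroDivisors hn).1 ?_
        rw [← e]; ring
      rw [hι₂, ← map_mul, ← e', ← hp₂, map_pow, mul_comm]
  choose p hp₁ hp₂ using key
  let φ : B →ₐ[k] P2 A :=
    { toFun := p
      map_one' := hinj₁ (by rw [hp₁, map_one, map_one])
      map_mul' := fun a b => hinj₁ (by rw [map_mul, hp₁, hp₁, hp₁, map_mul])
      map_zero' := hinj₁ (by rw [hp₁, map_zero, map_zero])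
      map_add' := fun a b => hinj₁ (by rw [map_add, hp₁, hp₁, hp₁, map_add])
      commutes' := fun c => hinj₁ (by rw [hp₁, AlgHom.commutes, AlgHom.commutes]) }
  exact ⟨φ, AlgHom.ext hp₁, AlgHom.ext hp₂⟩

end Glue

section Blocks

variable {n : ℕ}

/-- The general linear group over `k`. -/
abbrev GL' (k : Type u) [Field k] (m : ℕ) : Over (Spec (CommRingCat.of k)) :=
  CoactBr.sp k (CoordGrp.GLn m k)

/-- The matrix of a point of `GL_m`. -/
abbrev gmat {T : Over (Spec (CommRingCat.of k))} {m : ℕ} (x : T ⟶ GL' k m) : Matrix (Fin m) (Fin m) Γ(T.left, ⊤) :=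
  (DiagRep.glPts k m).mat x

/-- The matrix of a point of `GL_{n+n}` indexed by two blocks. -/
def blk {T : Over (Spec (CommRingCat.of k))} (x : T ⟶ GL' k (n + n)) :
    Matrix (Fin n ⊕ Fin n) (Fin n ⊕ Fin n) Γ(T.left, ⊤) :=
  (gmat x).submatrix finSumFinEquiv finSumFinEquiv

theorem blk_mul {T : Over (Spec (CommRingCat.of k))} (x y : T ⟶ GL' k (n + n)) : blk (x * y) = blk x * blk y := by
  rw [blk, blk, blk, Matrix.submatrix_mul_equiv, gmat, gmat, gmat, (DiagRep.glPts k (n + n)).mat_mul]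

theorem blk_comp {T T' : Over (Spec (CommRingCat.of k))} (h : T' ⟶ T) (x : T ⟶ GL' k (n + n)) :
    blk (h ≫ x) = (blk x).map h.left.appTop := by
  rw [blk, blk, gmat, gmat, (DiagRep.glPts k (n + n)).mat_comp, Matrix.submatrix_map]

theorem blk_one (T : Over (Spec (CommRingCat.of k))) : blk (1 : T ⟶ GL' k (n + n)) = 1 := by
  rw [blk, gmat, DiagRep.MatPts.mat_one, Matrix.submatrix_one_equiv]

theorem isUnit_det_blk {T : Over (Spec (CommRingCat.of k))} (x : T ⟶ GL' k (n + n)) : IsUnit (blk x).det := by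
  rw [blk, Matrix.det_submatrix_equiv_self]
  exact (DiagRep.glPts k (n + n)).isUnit_mat x

theorem blk_injective {T : Over (Spec (CommRingCat.of k))} {x y : T ⟶ GL' k (n + n)} (h : blk x = blk y) :
    x = y := by
  refine (DiagRep.glPts k (n + n)).mat_inj ?_
  have := congrArg (fun M => M.submatrix finSumFinEquiv.symm finSumFinEquiv.symm) h
  simpa [blk, gmat, Matrix.submatrix_submatrix] using this

theorem exists_blk_eq {T : Over (Spec (CommRingCat.of k))}
    (M : Matrix (Fin n ⊕ Fin n) (Fin n ⊕ Fin n) Γ(T.left, ⊤)) (hM : IsUnit M.det) :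
    ∃ x : T ⟶ GL' k (n + n), blk x = M := by
  obtain ⟨x, hx⟩ := (DiagRep.glPts k (n + n)).mat_exists
    (M.submatrix finSumFinEquiv.symm finSumFinEquiv.symm) (by rwa [Matrix.det_submatrix_equiv_self])
  refine ⟨x, ?_⟩
  rw [blk, gmat, hx, Matrix.submatrix_submatrix, Equiv.symm_comp_self, Matrix.submatrix_id_id]

/-- The block matrix of an algebra-valued point of `GL_{n+n}`. -/
def blkR {R : Type u} [CommRing R] [Algebra k R] (x : CoactBr.sp k R ⟶ GL' k (n + n)) :
    Matrix (Fin n ⊕ Fin n) (Fin n ⊕ Fin n) R :=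
  (blk x).map (secR R)

theorem blkR_mul {R : Type u} [CommRing R] [Algebra k R] (x y : CoactBr.sp k R ⟶ GL' k (n + n)) :
    blkR (x * y) = blkR x * blkR y := by
  rw [blkR, blkR, blkR, blk_mul, Matrix.map_mul]

theorem blkR_comp {R R' : Type u} [CommRing R] [Algebra k R] [CommRing R'] [Algebra k R'] (f : R →ₐ[k] R')
    (x : CoactBr.sp k R ⟶ GL' k (n + n)) : blkR (CoactBr.pt f ≫ x) = (blkR x).map f := by
  refine Matrix.ext fun a b => ?_
  rw [blkR, blk_comp]
  exact secR_natural f _

theorem blkR_injective {R : Type u} [CommRing R] [Algebra k R] {x y : CoactBr.sp k R ⟶ GL' k (n + n)}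
    (h : blkR x = blkR y) : x = y :=
  blk_injective (Matrix.map_injective (bijective_secR R).1 h)

theorem exists_blkR_eq {R : Type u} [CommRing R] [Algebra k R]
    (M : Matrix (Fin n ⊕ Fin n) (Fin n ⊕ Fin n) R) (hM : IsUnit M.det) :
    ∃ x : CoactBr.sp k R ⟶ GL' k (n + n), blkR x = M := by
  let e := RingEquiv.ofBijective (secR (k := k) R) (bijective_secR R)
  have hd : IsUnit (M.map e.symm).det := by
    have := hM.map e.symm.toRingHom
    rwa [RingHom.map_det] at this
  obtain ⟨x, hx⟩ := exists_blk_eq _ hd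
  refine ⟨x, ?_⟩
  rw [blkR, hx, Matrix.map_map]
  refine Matrix.ext fun a b => ?_
  exact e.apply_symm_apply (M a b)

/-- Upper triangular block matrices are invertible when their diagonal blocks are. -/
theorem isUnit_det_one_corner {R : Type u} [CommRing R] (a c : Matrix (Fin n) (Fin n) R) (hc : IsUnit c.det) :
    IsUnit (Matrix.fromBlocks a 1 c 0).det := by
  refine Matrix.isUnit_det_of_right_inverse (B := Matrix.fromBlocks 0 c⁻¹ 1 (-(a * c⁻¹))) ?_
  rw [Matrix.fromBlocks_multiply, ← Matrix.fromBlocks_one]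
  simp [Matrix.mul_nonsing_inv c hc]

end Blocks

end Groth.Agent.GITLib.NontrivTorsor
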